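import Groth.Agent.PicSpread.Basic
import Groth.Agent.C1Cap.PullGen
import Groth.Agent.UfdExtend.Glue
import Groth.Agent.Castel.Local
import Groth.Agent.AffineSpaceUnits

/-!
Invertible modules on affine space over a reduced scheme, trivial over every local ring, come from the base.
-/

set_option autoImplicit false
set_option backward.isDefEq.respectTransparency false
set_option backward.isDefEq.respectTransparency.types false
set_option linter.style.haveILetI false

universe u

open CategoryTheory CategoryTheory.Limits AlgebraicGeometry TopologicalSpace Opposite MvPolynomial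
open Groth.Agent.QC (res resO res_res res_self res_smul)
open TMul (IsGen)
open ProjMor (eta eta_res eta_smul)

noncomputable section

namespace Groth.Agent.PicSpread

variable {ι : Type u} {X : Scheme.{u}}

local notation "π" => (AffineSpace ι X ↘ X)
local notation "σ₀" => AffineSpaceUnits.zero ι X

theorem zero_preimage (U : X.Opens) : σ₀ ⁻¹ᵁ (π ⁻¹ᵁ U) = U := by
  rw [← Scheme.Hom.comp_preimage, AffineSpaceUnits.zero_over]
  rfl

theorem app_zero_over (U : X.Opens) (v : Γ(X, U)) :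
    (σ₀).app (π ⁻¹ᵁ U) ((π).app U v) = resO X (zero_preimage U).le v := by
  rw [← CommRingCat.comp_apply, ← Scheme.Hom.comp_app]
  have h := Scheme.Hom.congr_app (AffineSpaceUnits.zero_over (n := ι) X) U
  rw [h]
  rfl

theorem range_map {U : Scheme.{u}} (j : U ⟶ X) [IsOpenImmersion j] :
    Set.range (AffineSpace.map ι j) = (π) ⁻¹' Set.range j :=
  by
  rw [← (AffineSpace.isPullback_map (n := ι) j).isoPullback_hom_fst, Scheme.Hom.comp_base, TopCat.coe_comp,
    Set.range_comp, Set.range_eq_univ.2 (Scheme.Hom.surjective _), Set.image_univ, Scheme.Pullback.range_fst]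

/-- Unit functions on a tube which are one on the zero section are one. -/
theorem eq_one_of_zero [IsReduced X] (U : X.Opens) (w : Γ(AffineSpace ι X, π ⁻¹ᵁ U)) (hw : IsUnit w)
    (h : (σ₀).app (π ⁻¹ᵁ U) w = 1) : w = 1 := by
  haveI : IsReduced U.toScheme := isReduced_of_isOpenImmersion U.ι
  let m := AffineSpace.map ι U.ι
  haveI : IsOpenImmersion m := MorphismProperty.of_isPullback (P := @IsOpenImmersion)
    (AffineSpace.isPullback_map (n := ι) U.ι).flip inferInstance
  have hr : m.opensRange = π ⁻¹ᵁ U := Opens.ext ((range_map U.ι).trans (by rw [Scheme.Opens.range_ι]; rfl))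
  have hle : (⊤ : (AffineSpace ι U.toScheme).Opens) ≤ m ⁻¹ᵁ (π ⁻¹ᵁ U) := by
    rw [← hr]; exact fun t _ => ⟨t, rfl⟩
  have hz : (⊤ : U.toScheme.Opens) ≤ U.ι ⁻¹ᵁ (σ₀ ⁻¹ᵁ (π ⁻¹ᵁ U)) := by
    rw [zero_preimage, Scheme.Opens.ι_preimage_self]
  have hzm : AffineSpaceUnits.zero ι U.toScheme ≫ m = U.ι ≫ σ₀ := by
    apply AffineSpace.hom_ext
    · rw [Category.assoc, Category.assoc, AffineSpace.map_over, ← Category.assoc, AffineSpaceUnits.zero_over,
        AffineSpaceUnits.zero_over, Category.id_comp, Category.comp_id]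
    · intro i
      simp only [Scheme.Hom.comp_appTop, CommRingCat.comp_apply, AffineSpaceUnits.zero_coord,
        AffineSpace.map_appTop_coord, map_zero, m]
  let w' := m.appLE (π ⁻¹ᵁ U) ⊤ hle w
  have h1 : w' = 1 := by
    rw [← AffineSpaceUnits.isUnit_eq U.toScheme w' (hw.map _), Scheme.Hom.comp_appTop, CommRingCat.comp_apply]
    have : (AffineSpaceUnits.zero ι U.toScheme).appTop w' = 1 := by
      have e1 : (AffineSpaceUnits.zero ι U.toScheme).appTop w' =
          (U.ι ≫ σ₀).appLE (π ⁻¹ᵁ U) ⊤ hz w := by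
        simp only [← hzm, w', Scheme.Hom.appTop, Scheme.Hom.app_eq_appLE, ← CommRingCat.comp_apply,
          Scheme.Hom.appLE_comp_appLE]
        rfl
      rw [e1, ← Scheme.Hom.appLE_comp_appLE U.ι σ₀ _ (σ₀ ⁻¹ᵁ (π ⁻¹ᵁ U)) _ le_rfl hz, CommRingCat.comp_apply,
        ← Scheme.Hom.app_eq_appLE, h, map_one]
    rw [this, map_one]
  haveI : IsIso (m.appLE (π ⁻¹ᵁ U) ⊤ hle) := by
    haveI : IsIso (m.app (π ⁻¹ᵁ U)) := m.isIso_app _ hr.ge
    haveI : IsIso (homOfLE hle) := ⟨homOfLE le_top, Subsingleton.elim _ _, Subsingleton.elim _ _⟩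
    exact IsIso.comp_isIso
  exact (ConcreteCategory.bijective_of_isIso (m.appLE (π ⁻¹ᵁ U) ⊤ hle)).1 (h1.trans (map_one _).symm)

/-- Generators with the same trace on the zero section agree. -/
theorem gen_unique [IsReduced X] {L : (AffineSpace ι X).Modules} (U : X.Opens)
    {e₁ e₂ : Γ(L, π ⁻¹ᵁ U)} (h₁ : IsGen e₁) (h₂ : IsGen e₂)
    (h : eta σ₀ L (π ⁻¹ᵁ U) e₁ = eta σ₀ L (π ⁻¹ᵁ U) e₂) : e₁ = e₂ := by
  obtain ⟨w, hw⟩ := (h₁ _ le_rfl).2 e₂
  obtain ⟨w', hw'⟩ := (h₂ _ le_rfl).2 e₁
  change w • res L le_rfl e₁ = e₂ at hw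
  change w' • res L le_rfl e₂ = e₁ at hw'
  rw [res_self] at hw hw'
  have hu : IsUnit w := IsUnit.of_mul_eq_one w' ((h₁ _ le_rfl).1 (by
    change (w * w') • res L le_rfl e₁ = (1 : Γ(AffineSpace ι X, π ⁻¹ᵁ U)) • res L le_rfl e₁
    rw [res_self, one_smul, mul_comm w w', mul_smul, hw, hw']))
  have h0 : (σ₀).app (π ⁻¹ᵁ U) w = 1 := by
    refine (C1Cap.isGen_eta σ₀ h₁ _ le_rfl).1 ?_
    change (σ₀).app _ w • res _ le_rfl _ = (1 : Γ(X, σ₀ ⁻¹ᵁ (π ⁻¹ᵁ U))) • res _ le_rfl _
    rw [res_self, one_smul, ← eta_smul, hw, h]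
  rw [← hw, eq_one_of_zero U w hu h0, one_smul]

/-- A generator can be normalised along the zero section. -/
theorem exists_normalized {L : (AffineSpace ι X).Modules} {τ : Γ((Scheme.Modules.pullback σ₀).obj L, ⊤)}
    (hτ : IsGen τ) (U : X.Opens) (e : Γ(L, π ⁻¹ᵁ U)) (he : IsGen e) :
    ∃ e' : Γ(L, π ⁻¹ᵁ U), IsGen e' ∧ eta σ₀ L (π ⁻¹ᵁ U) e' = res _ le_top τ := by
  have hE := C1Cap.isGen_eta σ₀ he
  obtain ⟨c, hc⟩ := (hE _ le_rfl).2 (res _ le_top τ)
  obtain ⟨d, hd⟩ := (hτ _ le_top).2 (eta σ₀ L (π ⁻¹ᵁ U) e)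
  change c • res _ le_rfl _ = _ at hc
  change d • res _ le_top _ = _ at hd
  rw [res_self] at hc
  have hdc : c * d = 1 := (hτ _ le_top).1 (by
    change (c * d) • res _ le_top τ = (1 : Γ(X, σ₀ ⁻¹ᵁ (π ⁻¹ᵁ U))) • res _ le_top τ
    rw [one_smul, mul_smul, hd, hc])
  let w := (π).app U (resO X (zero_preimage U).ge c)
  have hw : IsUnit w := ((IsUnit.of_mul_eq_one d hdc).map _).map _
  refine ⟨w • e, fun V hV => ?_, ?_⟩
  · have hfun : (fun b : Γ(AffineSpace ι X, V) => b • res L hV (w • e)) =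
        (fun b : Γ(AffineSpace ι X, V) => b • res L hV e) ∘ fun b => b * resO (AffineSpace ι X) hV w := by
      funext b
      rw [Function.comp_apply, res_smul, mul_smul]
    rw [hfun]
    exact (he V hV).comp (hw.map (resO (AffineSpace ι X) hV)).unit.mulRight_bijective
  · rw [eta_smul, app_zero_over, QC.resO_resO, QC.resO_self, hc]

variable (ι) in
/-- The affine tube over an affine open as a spectrum of a polynomial ring. -/
def tube {U : X.Opens} (hU : IsAffineOpen U) :
    Spec (CommRingCat.of (MvPolynomial ι Γ(X, U))) ⟶ AffineSpace ι X :=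
  (AffineSpace.SpecIso ι Γ(X, U)).inv ≫ AffineSpace.map ι hU.fromSpec

/-- Near each point, triviality over the local ring gives a generator on a tube. -/
theorem exists_gen_near {L : (AffineSpace ι X).Modules} (hL : PicF.IsInvertible L) (x : X)
    (hx : ∀ M : (AffineSpace ι (Spec (X.presheaf.stalk x))).Modules, PicF.IsInvertible M →
      Nonempty (M ≅ Coh.structureModule (AffineSpace ι (Spec (X.presheaf.stalk x))))) :
    ∃ (U : X.Opens) (e : Γ(L, π ⁻¹ᵁ U)), x ∈ U ∧ IsGen e := by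
  obtain ⟨U, hU, hxU, -⟩ := exists_isAffineOpen_mem_and_subset (X := X) (x := x) (U := ⊤) trivial
  let φ : Γ(X, U) ⟶ X.presheaf.stalk x := X.presheaf.germ U x hxU
  let j := tube ι hU
  haveI : IsOpenImmersion (AffineSpace.map ι hU.fromSpec) := MorphismProperty.of_isPullback (P := @IsOpenImmersion)
    (AffineSpace.isPullback_map (n := ι) hU.fromSpec).flip inferInstance
  haveI : IsOpenImmersion j := inferInstanceAs (IsOpenImmersion ((AffineSpace.SpecIso ι Γ(X, U)).inv ≫ _))
  letI : Algebra Γ(X, U) (X.presheaf.stalk x) := φ.hom.toAlgebra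
  haveI hloc : IsLocalization (hU.primeIdealOf ⟨x, hxU⟩).asIdeal.primeCompl (X.presheaf.stalk x) :=
    hU.isLocalization_stalk ⟨x, hxU⟩
  let P := MvPolynomial ι Γ(X, U)
  letI : Algebra P (MvPolynomial ι (X.presheaf.stalk x)) := (MvPolynomial.map φ.hom).toAlgebra
  let T : Submonoid P := (hU.primeIdealOf ⟨x, hxU⟩).asIdeal.primeCompl.map (C (σ := ι))
  haveI : IsLocalization T (MvPolynomial ι (X.presheaf.stalk x)) := MvPolynomial.isLocalization _ _
  let L' := (Scheme.Modules.pullback j).obj L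
  have key : Nonempty ((Scheme.Modules.pullback (Spec.map (CommRingCat.ofHom
      (algebraMap P (MvPolynomial ι (X.presheaf.stalk x)))))).obj L' ≅
        Coh.structureModule (Spec (CommRingCat.of (MvPolynomial ι (X.presheaf.stalk x))))) := by
    obtain ⟨t⟩ := hx _ (PicLoc.isInvertible_pullback (AffineSpace.map ι (X.fromSpecStalk x)) hL)
    have w : Spec.map (CommRingCat.ofHom (algebraMap P (MvPolynomial ι (X.presheaf.stalk x)))) ≫ j =
        (AffineSpace.SpecIso ι (X.presheaf.stalk x)).inv ≫ AffineSpace.map ι (X.fromSpecStalk x) := by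
      rw [← hU.fromSpecStalk_eq_fromSpecStalk hxU, IsAffineOpen.fromSpecStalk, AffineSpace.map_comp,
        AffineSpace.map_SpecMap, Category.assoc, Category.assoc, Iso.inv_hom_id_assoc]
      rfl
    exact ⟨(Scheme.Modules.pullbackComp _ j).app L ≪≫ (Scheme.Modules.pullbackCongr w).app L ≪≫
      ((Scheme.Modules.pullbackComp _ _).app L).symm ≪≫
      (Scheme.Modules.pullback (AffineSpace.SpecIso ι (X.presheaf.stalk x)).inv).mapIso t ≪≫
      PicLoc.pullbackStructureIso _⟩
  obtain ⟨t⟩ := key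
  obtain ⟨r, hr, ⟨t'⟩⟩ := exists_away_spec T L' (PicLoc.isInvertible_pullback j hL) t
  obtain ⟨g, hg, rfl⟩ := hr
  let q := Spec.map (CommRingCat.ofHom (algebraMap P (Localization.Away (C (σ := ι) g))))
  haveI : IsOpenImmersion q := IsOpenImmersion.of_isLocalization (C (σ := ι) g)
  obtain ⟨e, he⟩ := exists_isGen_of_pullback L (q ≫ j)
    (((Scheme.Modules.pullbackComp q j).app L).symm ≪≫ t')
  refine ⟨X.basicOpen g, res L ?_ e, ?_, he.res _⟩
  · intro y hy
    have hyU : (π) y ∈ Set.range hU.fromSpec := by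
      rw [hU.range_fromSpec]
      exact X.basicOpen_le g hy
    obtain ⟨z, hz⟩ : y ∈ Set.range (AffineSpace.map ι hU.fromSpec) := (range_map hU.fromSpec).ge hyU
    obtain ⟨z', rfl⟩ := (AffineSpace.SpecIso ι Γ(X, U)).inv.homeomorph.surjective z
    have hπ : hU.fromSpec ((Spec.map (CommRingCat.ofHom C)) z') = (π) y := by
      rw [← hz]
      have e1 : Spec.map (CommRingCat.ofHom C) ≫ hU.fromSpec = j ≫ π := by
        simp only [j, tube, Category.assoc, AffineSpace.map_over, AffineSpace.SpecIso_inv_over_assoc]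
      exact congrArg (fun f : Spec (CommRingCat.of P) ⟶ X => f z') e1
    have hmem : (Spec.map (CommRingCat.ofHom (C (σ := ι)))) z' ∈ PrimeSpectrum.basicOpen g := by
      rw [← hU.fromSpec_preimage_basicOpen g]
      show hU.fromSpec _ ∈ X.basicOpen g
      rw [hπ]
      exact hy
    obtain ⟨z'', hz''⟩ : z' ∈ Set.range q := by
      rw [show Set.range q = ((PrimeSpectrum.basicOpen (C (σ := ι) g) : Opens (PrimeSpectrum P)) :
          Set (PrimeSpectrum P)) from PrimeSpectrum.localization_away_comap_range _ _]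
      exact hmem
    exact ⟨z'', (congrArg j hz'').trans hz⟩
  · rw [Scheme.mem_basicOpen _ _ _ hxU]
    exact (IsLocalization.map_units (X.presheaf.stalk x) (⟨g, hg⟩ : (hU.primeIdealOf ⟨x, hxU⟩).asIdeal.primeCompl))

/-- Invertible modules trivial over all local rings and along the zero section are trivial. -/
theorem nonempty_iso [IsReduced X] {L : (AffineSpace ι X).Modules} (hL : PicF.IsInvertible L)
    (t : Coh.structureModule X ≅ (Scheme.Modules.pullback σ₀).obj L)
    (hloc : ∀ (x : X) (M : (AffineSpace ι (Spec (X.presheaf.stalk x))).Modules), PicF.IsInvertible M →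
      Nonempty (M ≅ Coh.structureModule (AffineSpace ι (Spec (X.presheaf.stalk x))))) :
    Nonempty (L ≅ Coh.structureModule (AffineSpace ι X)) := by
  obtain ⟨τ, hτ⟩ := exists_isGen_of_triv _ (⊤ : X.Opens)
    ((Scheme.Modules.restrictFunctor _).mapIso t.symm ≪≫ Scheme.Modules.restrictUnitIso _)
  choose U e hxU he using fun x => exists_gen_near hL x (hloc x)
  choose E hE hEτ using fun x => exists_normalized hτ (U x) (e x) (he x)
  have hcomp : TopCat.Presheaf.IsCompatible L.presheaf (fun x : X => π ⁻¹ᵁ U x) E := fun x y => by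
    have hp : π ⁻¹ᵁ (U x ⊓ U y) = π ⁻¹ᵁ U x ⊓ π ⁻¹ᵁ U y := rfl
    refine gen_unique (U x ⊓ U y) ((hE x).res inf_le_left) ((hE y).res inf_le_right) ?_
    show eta σ₀ L _ (res L _ (E x)) = eta σ₀ L _ (res L _ (E y))
    exact (eta_res σ₀ L _ (E x)).symm.trans ((congrArg _ (hEτ x)).trans ((res_res _ _ _ τ).trans
      ((res_res _ _ le_top τ).symm.trans ((congrArg _ (hEτ y).symm).trans (eta_res σ₀ L _ (E y))))))
  have hcov : (⊤ : (AffineSpace ι X).Opens) ≤ iSup fun x => π ⁻¹ᵁ U x :=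
    fun y _ => Opens.mem_iSup.2 ⟨(π) y, hxU _⟩
  obtain ⟨g, hg, -⟩ := TopCat.Sheaf.existsUnique_gluing' (F := QC.abSheaf L) _ ⊤ (fun x => homOfLE le_top) hcov E hcomp
  have hgen : IsGen (g : Γ(L, ⊤)) := UfdExtend.isGen_of_locally fun y _ =>
    ⟨π ⁻¹ᵁ U ((π) y), le_top, hxU _, by
      rw [show res L le_top g = E ((π) y) from hg _]
      exact hE _⟩
  obtain ⟨i⟩ := Castel.nonempty_iso_of_isGen hgen
  exact ⟨i.symm⟩

end Groth.Agent.PicSpread
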