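import Groth.Agent.QC.PullbackTilde
import Groth.Agent.LocFree.Props
import Groth.Agent.ResDesc.ResProp
import Groth.Agent.DRingKP.FlatBC
import Groth.Agent.TMul.Power
import Groth.Agent.DQCoh.AffinePerf

/-!
Triviality of an invertible module spreads out from a localization.
-/

set_option autoImplicit false
set_option backward.isDefEq.respectTransparency false
set_option backward.isDefEq.respectTransparency.types false
set_option linter.style.haveILetI false

universe u

open CategoryTheory CategoryTheory.Limits AlgebraicGeometry TopologicalSpace Opposite TensorProduct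

noncomputable section

namespace Groth.Agent.PicSpread

/-- A finitely presented module which is free of rank one over a localization is so over some
principal localization. -/
theorem exists_away {P M Q : Type u} [CommRing P] [AddCommGroup M] [Module P M] [Module.FinitePresentation P M]
    [CommRing Q] [Algebra P Q] (S : Submonoid P) [IsLocalization S Q] (e : Q ⊗[P] M ≃ₗ[Q] Q) :
    ∃ r ∈ S, Nonempty (Localization.Away r ⊗[P] M ≃ₗ[Localization.Away r] Localization.Away r) := by
  haveI : IsLocalizedModule S (TensorProduct.mk P Q M 1) :=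
    (isLocalizedModule_iff_isBaseChange S Q _).2 (TensorProduct.isBaseChange P M Q)
  obtain ⟨r, hr, l, -⟩ := Module.FinitePresentation.exists_lift_equiv_of_isLocalizedModule S
    (TensorProduct.mk P Q M 1) (Algebra.linearMap P Q) (e.restrictScalars P)
  exact ⟨r, hr, ⟨(LocalizedModule.equivTensorProduct (Submonoid.powers r) M).symm ≪≫ₗ l ≪≫ₗ
    LocalizedModule.equivTensorProduct (Submonoid.powers r) P ≪≫ₗ
    AlgebraTensorModule.rid P (Localization.Away r) (Localization.Away r)⟩⟩

variable {R S : CommRingCat.{u}}

/-- The structure sheaf is the sheaf of the ring. -/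
def tildeStr (R : CommRingCat.{u}) : (tilde.functor R).obj (ModuleCat.of R R) ≅ Coh.structureModule (Spec R) :=
  AlgebraicGeometry.tildeSelf (R := R)

/-- A pullback along a map of affine schemes in terms of global sections. -/
theorem nonempty_pullbackIso (φ : R ⟶ S) (F : (Spec R).Modules) (hF : Coh.IsQCoh F) :
    Nonempty ((Scheme.Modules.pullback (Spec.map φ)).obj F ≅
      (tilde.functor S).obj ((ModuleCat.extendScalars.{u, u, u} φ.hom).obj ((moduleSpecΓFunctor (R := R)).obj F))) := by
  haveI : F.IsQuasicoherent := hF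
  haveI : IsIso (Scheme.Modules.fromTildeΓ F) := Scheme.Modules.isIso_fromTildeΓ_of_isQuasicoherent F
  exact ⟨(Scheme.Modules.pullback (Spec.map φ)).mapIso (asIso (Scheme.Modules.fromTildeΓ F)).symm ≪≫
    (QC.pullbackTildeIso φ).app _⟩

/-- A trivial pullback has a free module of sections. -/
def extendIso (φ : R ⟶ S) (F : (Spec R).Modules) (hF : Coh.IsQCoh F)
    (e : (Scheme.Modules.pullback (Spec.map φ)).obj F ≅ Coh.structureModule (Spec S)) :
    (ModuleCat.extendScalars.{u, u, u} φ.hom).obj ((moduleSpecΓFunctor (R := R)).obj F) ≅ ModuleCat.of S S :=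
  (tilde.functor S).preimageIso ((nonempty_pullbackIso φ F hF).some.symm ≪≫ e ≪≫ (tildeStr S).symm)

/-- A free module of sections gives a trivial pullback. -/
theorem pullback_trivial (φ : R ⟶ S) (F : (Spec R).Modules) (hF : Coh.IsQCoh F)
    (e : (ModuleCat.extendScalars.{u, u, u} φ.hom).obj ((moduleSpecΓFunctor (R := R)).obj F) ≅ ModuleCat.of S S) :
    Nonempty ((Scheme.Modules.pullback (Spec.map φ)).obj F ≅ Coh.structureModule (Spec S)) :=
  ⟨(nonempty_pullbackIso φ F hF).some ≪≫ (tilde.functor S).mapIso e ≪≫ tildeStr S⟩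

/-- Triviality of an invertible module spreads from a localization to a principal localization. -/
theorem exists_away_spec {P Q : Type u} [CommRing P] [CommRing Q] [Algebra P Q] (T : Submonoid P)
    [IsLocalization T Q] (F : (Spec (CommRingCat.of P)).Modules) (hF : PicF.IsInvertible F)
    (e : (Scheme.Modules.pullback (Spec.map (CommRingCat.ofHom (algebraMap P Q)))).obj F ≅
      Coh.structureModule (Spec (CommRingCat.of Q))) :
    ∃ r ∈ T, Nonempty ((Scheme.Modules.pullback
      (Spec.map (CommRingCat.ofHom (algebraMap P (Localization.Away r))))).obj F ≅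
        Coh.structureModule (Spec (CommRingCat.of (Localization.Away r)))) := by
  have hfl := ResDesc.isFinLocFree_of_isInvertible hF
  let N : ModuleCat.{u} P := (moduleSpecΓFunctor (R := CommRingCat.of P)).obj F
  obtain ⟨hf, hp⟩ : Module.Finite P N ∧ Module.Projective P N := DQCoh.finiteProjective_gamma F hfl
  haveI := hf
  haveI := hp
  haveI : Module.FinitePresentation P N := Module.finitePresentation_of_projective P N
  let φ : CommRingCat.of P ⟶ CommRingCat.of Q := CommRingCat.ofHom (algebraMap P Q)
  let e2 := extendIso φ F (DQCoh.isQCoh_of_isFinLocFree hfl) e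
  obtain ⟨r, hr, ⟨l⟩⟩ := exists_away T ((DRingKP.extendTensorIso (A := P) (B := Q) N).symm ≪≫ e2).toLinearEquiv
  let ψ : CommRingCat.of P ⟶ CommRingCat.of (Localization.Away r) :=
    CommRingCat.ofHom (algebraMap P (Localization.Away r))
  exact ⟨r, hr, pullback_trivial ψ F (DQCoh.isQCoh_of_isFinLocFree hfl)
      (DRingKP.extendTensorIso (A := P) (B := Localization.Away r) N ≪≫ l.toModuleIso)⟩

/-- A trivialization over an open gives a generator. -/
theorem exists_isGen_of_triv {X : Scheme.{u}} (L : X.Modules) (U : X.Opens)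
    (φ : L.restrict U.ι ≅ Coh.structureModule U.toScheme) : ∃ e : Γ(L, U), TMul.IsGen e := by
  let e : Γ(L, U.ι ''ᵁ ⊤) := φ.inv.app ⊤ (1 : Γ(U, ⊤))
  suffices h : TMul.IsGen e by
    exact ⟨QC.res L (Scheme.Opens.ι_image_top U).ge e, h.res _⟩
  intro V hV
  have key : ∀ W : (U : Scheme.{u}).Opens,
      Function.Bijective fun c : Γ(X, U.ι ''ᵁ W) => c • QC.res L (U.ι.image_mono le_top) e := fun W => by
    have hb : Function.Bijective (φ.inv.app W) := ConcreteCategory.bijective_of_isIso (φ.inv.app W)
    have hfun : (fun c : Γ(U, W) => φ.inv.app W c) = fun c : Γ(U, W) =>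
        ((U.ι.appIso W).inv.hom c • QC.res L (U.ι.image_mono le_top) e : Γ(L, U.ι ''ᵁ W)) := by
      funext c
      refine (TMul.app_eq_smul φ.inv c).trans ?_
      exact congrArg (fun w : Γ(L.restrict U.ι, W) => c • w)
        (TMul.res_val φ.inv (le_top : W ≤ ⊤)).symm
    replace hb : Function.Bijective fun c : Γ(U, W) => φ.inv.app W c := hb
    rw [hfun] at hb
    exact (Function.Bijective.of_comp_iff _
      (ConcreteCategory.bijective_of_isIso (U.ι.appIso W).inv)).mp hb
  obtain ⟨W, rfl⟩ : ∃ W, U.ι ''ᵁ W = V := ⟨U.ι ⁻¹ᵁ V, by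
    rw [Scheme.Hom.image_preimage_eq_opensRange_inf, inf_eq_right.mpr]
    exact hV.trans (U.ι.image_le_opensRange _)⟩
  exact key W

/-- A trivialization along an open immersion gives a generator on its range. -/
theorem exists_isGen_of_pullback {X Z : Scheme.{u}} (L : X.Modules) (j : Z ⟶ X) [IsOpenImmersion j]
    (e : (Scheme.Modules.pullback j).obj L ≅ Coh.structureModule Z) : ∃ g : Γ(L, j.opensRange), TMul.IsGen g := by
  refine exists_isGen_of_triv L j.opensRange ?_
  exact (Scheme.Modules.restrictFunctorIsoPullback _).app L ≪≫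
    (Scheme.Modules.pullbackCongr j.isoOpensRange_inv_comp.symm).app L ≪≫
    ((Scheme.Modules.pullbackComp j.isoOpensRange.inv j).app L).symm ≪≫
    (Scheme.Modules.pullback j.isoOpensRange.inv).mapIso e ≪≫ PicLoc.pullbackStructureIso _

end Groth.Agent.PicSpread
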